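import Mathlib
import Cfsg.Prelude.Def_Spor_Conway

set_option autoImplicit false

/-!
Automorphisms of the Leech lattice on the vectors `8 e_j`: additivity, inner products, and the
matrix over `ZMod 13` of an automorphism.
-/

namespace CfsgLib.LeechEight

open Cfsg

/-- The vector with `8` at `j` and `0` elsewhere. -/
def vecE (j : GolayPt) : GolayPt → ℤ := fun i => if i = j then 8 else 0

theorem vecE_mem (j : GolayPt) : vecE j ∈ leechLattice := by
  apply AddSubgroup.subset_closure
  refine Spor.mem_leechSet_of_const_mod_four _ 0 0 (Int.ModEq.refl _) (fun i => ?_) ?_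
  · unfold vecE Int.ModEq; split <;> norm_num
  · simp [vecE, Int.ModEq]

/-- `8 e_j` in the lattice. -/
def latE (j : GolayPt) : leechLattice := ⟨vecE j, vecE_mem j⟩

theorem eight_nsmul_eq (v : leechLattice) :
    (8 : ℕ) • v = ∑ j, ((v : GolayPt → ℤ) j) • latE j := by
  apply Subtype.ext
  funext i
  simp only [AddSubgroup.coe_nsmul, AddSubgroup.val_finset_sum, Finset.sum_apply, Pi.smul_apply,
    AddSubgroup.coe_zsmul, latE, smul_eq_mul, nsmul_eq_mul]
  rw [Finset.sum_eq_single i (fun j _ hj => by simp [vecE, Ne.symm hj]) (by simp)]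
  simp [vecE, mul_comm]

/-- An element of `Co0` as an additive map. -/
def addHom (g : Co0) : leechLattice →+ leechLattice :=
  AddMonoidHom.mk' (fun v => (g : Equiv.Perm leechLattice) v) g.2.1

theorem addHom_apply (g : Co0) (v : leechLattice) :
    addHom g v = (g : Equiv.Perm leechLattice) v := rfl

theorem sqNorm_addHom (g : Co0) (v : leechLattice) :
    sqNorm ((addHom g v : leechLattice) : GolayPt → ℤ) = sqNorm (v : GolayPt → ℤ) := g.2.2 v

theorem sqNorm_add' (x y : GolayPt → ℤ) :
    sqNorm (x + y) = sqNorm x + sqNorm y + 2 * dotInt x y := by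
  simp only [sqNorm, dotInt, Finset.mul_sum, ← Finset.sum_add_distrib, Pi.add_apply]
  exact Finset.sum_congr rfl fun i _ => by ring

theorem dotInt_addHom (g : Co0) (v w : leechLattice) :
    dotInt ((addHom g v : leechLattice) : GolayPt → ℤ) ((addHom g w : leechLattice) : GolayPt → ℤ)
      = dotInt (v : GolayPt → ℤ) (w : GolayPt → ℤ) := by
  have h := sqNorm_addHom g (v + w)
  rw [map_add, AddSubgroup.coe_add, AddSubgroup.coe_add, sqNorm_add', sqNorm_add',
    sqNorm_addHom, sqNorm_addHom] at h
  linarith

theorem eight_addHom (g : Co0) (v : leechLattice) (i : GolayPt) :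
    8 * ((addHom g v : leechLattice) : GolayPt → ℤ) i =
      ∑ j, (v : GolayPt → ℤ) j * ((addHom g (latE j) : leechLattice) : GolayPt → ℤ) i := by
  have h := congrArg (fun x => ((addHom g x : leechLattice) : GolayPt → ℤ) i) (eight_nsmul_eq v)
  simpa [map_sum, Finset.sum_apply] using h

theorem eq_one_of_fix_latE (g : Co0) (h : ∀ j, addHom g (latE j) = latE j) : g = 1 := by
  apply Subtype.ext
  apply Equiv.ext
  intro v
  have h8 : (8 : ℕ) • addHom g v = (8 : ℕ) • v := by
    rw [← map_nsmul, eight_nsmul_eq v, map_sum]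
    simp [map_zsmul, h]
  have := congrArg (Subtype.val) h8
  apply Subtype.ext
  funext i
  have := congrFun this i
  simp only [AddSubgroup.coe_nsmul, Pi.smul_apply, nsmul_eq_mul] at this
  simpa [addHom_apply] using this

/-- Reduction modulo 13 of a lattice vector. -/
def red (v : leechLattice) : GolayPt → ZMod 13 := fun i => ((v : GolayPt → ℤ) i : ZMod 13)

/-- The matrix over `ZMod 13` of an automorphism of the lattice (note `5 * 8 = 1` modulo 13). -/
def mat (g : Co0) : Matrix GolayPt GolayPt (ZMod 13) :=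
  Matrix.of fun i j => 5 * red (addHom g (latE j)) i

theorem mat_mulVec (g : Co0) (v : leechLattice) :
    Matrix.mulVec (mat g) (red v) = red (addHom g v) := by
  funext i
  have h := congrArg (fun z : ℤ => (z : ZMod 13)) (eight_addHom g v i)
  push_cast at h
  simp only [Matrix.mulVec, dotProduct, mat, Matrix.of_apply, red]
  calc ∑ j, 5 * (((addHom g (latE j) : leechLattice) : GolayPt → ℤ) i : ZMod 13) * ((v : GolayPt → ℤ) j : ZMod 13)
      = 5 * ∑ j, ((v : GolayPt → ℤ) j : ZMod 13) * (((addHom g (latE j) : leechLattice) : GolayPt → ℤ) i : ZMod 13) := by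
        rw [Finset.mul_sum]; exact Finset.sum_congr rfl fun j _ => by ring
    _ = 5 * (8 * (((addHom g v : leechLattice) : GolayPt → ℤ) i : ZMod 13)) := by rw [h]
    _ = _ := by rw [← mul_assoc, show (5 : ZMod 13) * 8 = 1 from by decide, one_mul]

theorem mat_one : mat 1 = 1 := by
  ext i j
  by_cases h : i = j
  · subst h; simp [mat, red, latE, vecE, addHom_apply]; decide
  · simp [mat, red, latE, vecE, addHom_apply, h]

theorem mat_mul (g h : Co0) : mat (g * h) = mat g * mat h := by
  ext i j
  have := congrFun (mat_mulVec g (addHom h (latE j))) i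
  rw [Matrix.mul_apply]
  have h2 : addHom (g * h) (latE j) = addHom g (addHom h (latE j)) := rfl
  show 5 * red (addHom (g * h) (latE j)) i = _
  rw [h2, ← this, Matrix.mulVec, dotProduct, Finset.mul_sum]
  refine Finset.sum_congr rfl fun k _ => ?_
  show 5 * (mat g i k * red (addHom h (latE j)) k) = mat g i k * (5 * red (addHom h (latE j)) k)
  ring

theorem eq_one_of_mat_eq_one (g : Co0) (h : mat g = 1) : g = 1 := by
  apply eq_one_of_fix_latE
  intro j
  have hmod : ∀ i, (13 : ℤ) ∣ ((addHom g (latE j) : leechLattice) : GolayPt → ℤ) i - vecE j i := by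
    intro i
    have h1 := congrFun (congrFun h i) j
    have h2 : red (addHom g (latE j)) i = 8 * (1 : Matrix GolayPt GolayPt (ZMod 13)) i j := by
      rw [← h1]
      show _ = (8 : ZMod 13) * (5 * red (addHom g (latE j)) i)
      rw [← mul_assoc, show (8 : ZMod 13) * 5 = 1 from by decide, one_mul]
    refine (ZMod.intCast_eq_intCast_iff_dvd_sub (vecE j i) _ 13).mp ?_
    rw [show (((addHom g (latE j) : leechLattice) : GolayPt → ℤ) i : ZMod 13) = red (addHom g (latE j)) i from rfl, h2]
    by_cases hij : i = j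
    · subst hij; simp [vecE]
    · simp [vecE, hij]
  choose z hz using hmod
  have hn := sqNorm_addHom g (latE j)
  have hw : ((addHom g (latE j) : leechLattice) : GolayPt → ℤ) = fun i => vecE j i + 13 * z i := by
    funext i; linarith [hz i]
  rw [hw] at hn
  have he : ((latE j : leechLattice) : GolayPt → ℤ) = vecE j := rfl
  rw [he] at hn
  have key : 169 * (∑ i, z i ^ 2) + 208 * z j = 0 := by
    have h3 : sqNorm (fun i => vecE j i + 13 * z i)
        = sqNorm (vecE j) + (169 * (∑ i, z i ^ 2) + 208 * z j) := by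
      simp only [sqNorm, Finset.mul_sum]
      rw [show (208 * z j : ℤ) = ∑ i, 26 * (vecE j i * z i) by simp [vecE]; ring,
        ← Finset.sum_add_distrib, ← Finset.sum_add_distrib]
      exact Finset.sum_congr rfl fun i _ => by ring
    linarith
  have hle : z j ^ 2 ≤ ∑ i, z i ^ 2 :=
    Finset.single_le_sum (f := fun i => z i ^ 2) (fun i _ => sq_nonneg _) (Finset.mem_univ j)
  have hs : 0 ≤ ∑ i, z i ^ 2 := Finset.sum_nonneg fun i _ => sq_nonneg _
  have hzj : z j = 0 := by
    have u1 : z j ≤ 0 := by nlinarith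
    have u2 : -1 ≤ z j := by nlinarith
    rcases (show z j = 0 ∨ z j = -1 by omega) with h0 | h0
    · exact h0
    · rw [h0] at key; omega
  have hall : ∀ i, z i = 0 := by
    intro i
    have h0 : ∑ i, z i ^ 2 = 0 := by rw [hzj] at key; linarith
    exact pow_eq_zero_iff (by norm_num) |>.mp
      ((Finset.sum_eq_zero_iff_of_nonneg fun i _ => sq_nonneg _).mp h0 i (Finset.mem_univ i))
  apply Subtype.ext
  rw [hw]
  funext i
  simp [hall, latE]

/-- The representation of `Co0` on `(ZMod 13)^24`. -/
noncomputable def rep : Co0 →* ((GolayPt → ZMod 13) →ₗ[ZMod 13] (GolayPt → ZMod 13)) where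
  toFun g := Matrix.mulVecLin (mat g)
  map_one' := by rw [mat_one, Matrix.mulVecLin_one]; rfl
  map_mul' g h := by rw [mat_mul, Matrix.mulVecLin_mul]; rfl

theorem rep_apply (g : Co0) (x : GolayPt → ZMod 13) : rep g x = Matrix.mulVec (mat g) x := rfl

end CfsgLib.LeechEight
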